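import Cfsg.Agent.Lib.Sporadic.HNMult.Relators
import Cfsg.Agent.Lib.Sporadic.HNGroup.Cover
import Cfsg.Agent.Lib.Sporadic.HNCoset.Bound
import Cfsg.Agent.Lib.Schur.CentralLift

/-!
# The multiplier of the Harada–Norton group is trivial (owner: helper9)

The double cover of the Higman–Sims group lifts to every central extension, and then all relators of the
presentation hold on suitable lifts, so a stem extension splits.
-/

set_option autoImplicit false
set_option maxRecDepth 20000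

namespace CfsgLib.Sporadic.HNMult

open Cfsg CfsgLib.Sporadic CfsgLib.Sporadic.HNGroup

universe u

/-- Central extensions of a perfect double cover whose quotient has multiplier bound two are trivial. -/
theorem ker_eq_bot_of_double {Q : Type*} {H : Type*} {Γ : Type*} [Group Q] [Finite Q] [Group H] [Group Γ] [Finite Γ]
    (π : Q →* H) (hπs : Function.Surjective π) (hπc : π.ker ≤ Subgroup.center Q) (hπ2 : Nat.card π.ker = 2)
    (hperf : commutator Q = ⊤)
    (hle : ∀ (f : Γ →* H), Cfsg.IsStemExtension f → Nat.card f.ker ≤ 2)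
    (τ : Γ →* Q) (hτ : Cfsg.IsStemExtension τ) : τ.ker = ⊥ := by
  obtain ⟨hs, hc, hd⟩ := hτ
  have hΓ := CfsgLib.Schur.commutator_eq_top_of_central hperf τ hs hd
  have hcz : (π.comp τ).ker ≤ Subgroup.center Γ := by
    intro g hg
    have h1 : τ g ∈ Subgroup.center Q := hπc hg
    rw [← CfsgLib.Schur.map_center_of_perfect hΓ τ hs hc] at h1
    obtain ⟨z, hz, e⟩ := h1
    have h2 : z⁻¹ * g ∈ Subgroup.center Γ := hc (by rw [MonoidHom.mem_ker, map_mul, map_inv, e, inv_mul_cancel])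
    have h3 := mul_mem hz h2
    rwa [mul_inv_cancel_left] at h3
  have h := hle (π.comp τ) ⟨hπs.comp hs, hcz, by rw [hΓ]; exact le_top⟩
  let f : (π.comp τ).ker →* π.ker := (τ.comp (π.comp τ).ker.subtype).codRestrict π.ker fun g => g.2
  have hf : Function.Surjective f := fun q => by
    obtain ⟨g, hg⟩ := hs q.1
    exact ⟨⟨g, by rw [MonoidHom.mem_ker, MonoidHom.comp_apply, hg]; exact q.2⟩, Subtype.ext hg⟩
  have hinj : Function.Injective f :=
    ((Nat.bijective_iff_surjective_and_card f).2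
      ⟨hf, le_antisymm (hπ2 ▸ h) (Nat.card_le_card_of_surjective f hf)⟩).1
  refine (Subgroup.eq_bot_iff_forall _).2 fun g hg => ?_
  have hgk : g ∈ (π.comp τ).ker := by rw [MonoidHom.mem_ker, MonoidHom.comp_apply, MonoidHom.mem_ker.1 hg, map_one]
  have e := hinj (a₁ := ⟨g, hgk⟩) (a₂ := 1) (Subtype.ext (by
    show τ g = τ 1
    rw [MonoidHom.mem_ker.1 hg, map_one]))
  exact congrArg Subtype.val e

/-- The double cover has trivial multiplier. -/
theorem multiplier_Q : Cfsg.HasCyclicSchurMultiplier ↥Q 1 := by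
  let e : HS0 ≃* ↥HsMult.act.range := MonoidHom.ofInjective HsMult.act_injective
  let π : ↥Q →* HS0 := e.symm.toMonoidHom.comp toSimple
  have hk : π.ker = tauQ.ker := by
    rw [← ker_toSimple]
    ext q
    simp [π]
  refine CfsgLib.Schur.hasCyclicSchurMultiplier_one_of_forall fun Γ _ _ τ hτ => ?_
  refine ker_eq_bot_of_double π (e.symm.surjective.comp toSimple_surjective) (hk ▸ ker_central) ?_ perfect_Q
    (fun f hf => HsMult.card_ker_le f hf) τ hτ
  rw [hk]; exact card_ker_two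

theorem mem_words {w : List ℕ} (h : words10.contains w = true) : w ∈ words10 := List.contains_iff_mem.1 h

/-- The relations in the small presented group. -/
theorem small_rels : SmallRels (L 0) (L 2) (L 4) := by
  have r : ∀ w : List ℕ, words10.contains w = true → (w.map L).prod = 1 := fun w h => L_rel (mem_words h)
  have h1 := r [2, 2, 2, 2, 2, 2] (by decide +kernel)
  have h2 := r [0, 0, 2, 0, 0, 3] (by decide +kernel)
  have h3 := r [1, 3, 0, 2, 1, 3, 0, 2, 1, 3, 0, 2] (by decide +kernel)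
  have h4 := r [1, 2, 2, 0, 2, 2, 2, 1, 2, 2, 0, 2, 2, 2, 1, 2, 2, 0, 2, 2, 2] (by decide +kernel)
  have h5 := r [0, 2, 0, 2, 0, 2, 0, 2, 0, 2, 0, 2, 0, 2, 0, 2] (by decide +kernel)
  have h6 := r [0, 2, 0, 2, 2, 2, 0, 2, 0, 2, 2, 2, 0, 2, 0, 2, 2, 2, 0, 2, 0, 2, 2, 2] (by decide +kernel)
  have h7 := r [4, 4] (by decide +kernel)
  have h8 := r [4, 0, 4, 0] (by decide +kernel)
  have h9 := r [5, 2, 1, 3, 3, 1, 3, 1, 3, 4, 2, 0, 2, 0, 2, 2, 0, 3, 1, 1] (by decide +kernel)
  have h10 := r [4, 3, 1, 3, 1, 3, 3, 3, 4, 2, 2, 2, 0, 2, 0, 2, 0, 3, 1, 3, 1, 3, 3, 3, 4, 2, 2, 2, 0, 2, 0, 2, 0,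
    3, 1, 3, 1, 3, 3, 3, 4, 2, 2, 2, 0, 2, 0, 2, 0] (by decide +kernel)
  simp only [List.map_cons, List.map_nil, List.prod_cons, List.prod_nil, mul_one, L_one, L_three, L_five]
    at h1 h2 h3 h4 h5 h6 h7 h8 h9 h10
  constructor <;> simp only [pow_succ, pow_zero, one_mul, mul_inv_rev, inv_inv, mul_assoc]
  exacts [h1, h2, h3, h4, h5, h6, h7, h8, h9, h10, by simpa [mul_assoc] using L_x_four]

/-- A relator on the images of the generators. -/
theorem rel_of_mem {r : FreeGroup Spor.HN.Gen} (h : r ∈ Spor.HN.extra) :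
    FreeGroup.lift (fun g => (PresentedGroup.of g : Spor.HN)) r = 1 := by
  have e : FreeGroup.lift (fun g => (PresentedGroup.of g : Spor.HN)) =
      PresentedGroup.mk (Spor.coxRelators Spor.HN.edges ∪ {r | r ∈ Spor.HN.extra}) :=
    FreeGroup.ext_hom _ _ fun g => by rw [FreeGroup.lift_apply_of]; rfl
  rw [e]
  exact PresentedGroup.one_of_mem (Or.inr h)

theorem rels_of {M : Type*} [Group M] (φ : FreeGroup Spor.HN.Gen →* M) (h : ∀ r ∈ Spor.HN.extra, φ r = 1) :
    Rels (φ Spor.HN.x) (φ Spor.HN.y) (φ Spor.HN.z) (φ Spor.HN.t) := by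
  simp only [Spor.HN.extra, List.forall_mem_cons, List.not_mem_nil, false_implies, forall_const, and_true, map_mul,
    map_pow, map_inv] at h
  obtain ⟨h1, h2, h3, h4, h5, h6, h7, h8, h9, h10, h11, h12, h13, h14⟩ := h
  exact ⟨h1, h2, h3, h4, h5, h6, h7, h8, h9, h10, h11, h12, h13, h14⟩

theorem big_rels : Rels (PresentedGroup.of Spor.HN.Gen.x : Spor.HN) (PresentedGroup.of Spor.HN.Gen.y)
    (PresentedGroup.of Spor.HN.Gen.z) (PresentedGroup.of Spor.HN.Gen.t) := by
  have h := rels_of _ fun r => rel_of_mem (r := r)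
  simpa only [Spor.HN.x, Spor.HN.y, Spor.HN.z, Spor.HN.t, FreeGroup.lift_apply_of] using h

/-- A section of a central extension. -/
theorem exists_section {Γ : Type*} [Group Γ] (σ : Γ →* Spor.HN) {x y z t : Γ} (R : Rels x y z t)
    (hx : σ x = PresentedGroup.of Spor.HN.Gen.x) (hy : σ y = PresentedGroup.of Spor.HN.Gen.y)
    (hz : σ z = PresentedGroup.of Spor.HN.Gen.z) (ht : σ t = PresentedGroup.of Spor.HN.Gen.t) :
    ∃ s : Spor.HN →* Γ, ∀ g, σ (s g) = g := by
  let f : Spor.HN.Gen → Γ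
    | .x => x
    | .y => y
    | .z => z
    | .t => t
  have hrel : ∀ r ∈ Spor.coxRelators Spor.HN.edges ∪ {r | r ∈ Spor.HN.extra}, FreeGroup.lift f r = 1 := by
    rintro r (⟨a, ha, -⟩ | hr)
    · simp [Spor.coxNodes, Spor.HN.edges] at ha
    · simp only [Spor.HN.extra, Set.mem_setOf_eq, List.mem_cons, List.not_mem_nil, or_false] at hr
      rcases hr with rfl | rfl | rfl | rfl | rfl | rfl | rfl | rfl | rfl | rfl | rfl | rfl | rfl | rfl <;>
        simp only [map_mul, map_pow, map_inv, FreeGroup.lift_apply_of, f]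
      exacts [R.r1, R.r2, R.r3, R.r4, R.r5, R.r6, R.r7, R.r8, R.r9, R.r10, R.r11, R.r12, R.r13, R.r14]
  refine ⟨PresentedGroup.toGroup hrel, fun g => ?_⟩
  have e : σ.comp (PresentedGroup.toGroup hrel) = MonoidHom.id _ := PresentedGroup.ext fun a => by
    rw [MonoidHom.comp_apply, PresentedGroup.toGroup.of, MonoidHom.id_apply]
    cases a
    exacts [hx, hy, hz, ht]
  exact DFunLike.congr_fun e g

/-- A stem extension of the Harada–Norton group is trivial. -/
theorem ker_eq_bot {Γ : Type} [Group Γ] [Finite Γ] (σ : Γ →* Spor.HN) (hσ : Cfsg.IsStemExtension σ) :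
    σ.ker = ⊥ := by
  obtain ⟨χ, hχ⟩ := CfsgLib.Schur.exists_lift_of_perfect σ hσ.1 hσ.2.1 perfect_Q multiplier_Q (toHN.comp Q.subtype)
  have B := big_rels
  obtain ⟨x, y, z, t, hx, hy, hz, ht, R⟩ := exists_rels σ hσ.1 hσ.2.1 toHN (Q := Q) perfect_Q χ
    (fun q => DFunLike.congr_fun hχ q) ⟨L 0, L_mem_Q.1⟩ ⟨L 2, L_mem_Q.2⟩ (L 4) small_rels
    (PresentedGroup.of Spor.HN.Gen.t) B.r11 (by rw [toHN_x]; exact B.r12) (by rw [toHN_y]; exact B.r13)
    (by rw [toHN_z]; exact B.r14)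
  obtain ⟨s, hs⟩ := exists_section σ R (hx.trans toHN_x) (hy.trans toHN_y) (hz.trans toHN_z) ht
  have htop : s.range = ⊤ := CfsgLib.Schur.eq_top_of_stem σ hσ _ (eq_top_iff.2 fun g _ => ⟨s g, ⟨g, rfl⟩, hs g⟩)
  refine (Subgroup.eq_bot_iff_forall _).2 fun k hk => ?_
  obtain ⟨g, rfl⟩ : k ∈ s.range := htop ▸ Subgroup.mem_top k
  rw [MonoidHom.mem_ker, hs] at hk
  rw [hk, map_one]

theorem multiplier_HN : Cfsg.HasCyclicSchurMultiplier Spor.HN 1 := by
  haveI := HNCoset.finite_hn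
  exact CfsgLib.Schur.hasCyclicSchurMultiplier_one_of_forall fun Γ _ _ σ hσ => ker_eq_bot σ hσ

end CfsgLib.Sporadic.HNMult
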