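import Cfsg.Agent.Lib.Schur.Perfect

/-!
# Lifting the relators of the Harada–Norton presentation through a central extension (owner: helper9)

The first two generators are lifted inside the lift of a perfect normal subgroup with unique lifts; the
other two are corrected by central elements, after which every relator holds.
-/

set_option autoImplicit false
set_option maxHeartbeats 1000000

namespace CfsgLib.Sporadic.HNMult

/-- The fourteen relators on four elements. -/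
structure Rels {M : Type*} [Group M] (x y z t : M) : Prop where
  r1 : y ^ 6 = 1
  r2 : (x ^ 2) * y * (x ^ 2) * (y⁻¹) = 1
  r3 : (x⁻¹ * y⁻¹ * x * y) ^ 3 = 1
  r4 : ((x⁻¹) * (y ^ 2) * x * (y ^ 3)) ^ 3 = 1
  r5 : (x * y) ^ 8 = 1
  r6 : (x * y * x * (y ^ 3)) ^ 4 = 1
  r7 : z ^ 2 = 1
  r8 : (z * x) ^ 2 = 1
  r9 : (z⁻¹ * (y * x * y * x * (y ^ 2) * x * (y⁻¹))⁻¹ * z * (y * x * y * x * (y ^ 2) * x * (y⁻¹))) *
    ((x ^ 2)⁻¹) = 1
  r10 : z * (((((y ^ 3) * x * y * x * y)⁻¹ * z * ((y ^ 3) * x * y * x * y)) * x) ^ 3) = 1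
  r11 : t ^ 5 = 1
  r12 : (x⁻¹ * t * x) * (t ^ 2) = 1
  r13 : t⁻¹ * y⁻¹ * t * y = 1
  r14 : (z * t) ^ 3 = 1

section

variable {Γ H P : Type*} [Group Γ] [Group H] [Group P] (σ : Γ →* H) (hc : σ.ker ≤ Subgroup.center Γ)
include hc

theorem commute_of_one {g : Γ} (h : σ g = 1) (k : Γ) : Commute k g :=
  Subgroup.mem_center_iff.1 (hc h) k

/-- Lifts of homomorphisms on a perfect normal subgroup respect conjugation. -/
theorem conj_lift (ψ : P →* H) {Q : Subgroup P} [hn : Q.Normal] (hperf : commutator Q = ⊤) (χ : Q →* Γ)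
    (hχ : ∀ q, σ (χ q) = ψ q) {Z : P} {z : Γ} (hz : σ z = ψ Z) (q : Q) :
    z * χ q * z⁻¹ = χ ⟨Z * q * Z⁻¹, hn.conj_mem q q.2 Z⟩ := by
  have h := CfsgLib.Schur.hom_ext_of_perfect hperf σ hc
    (η₁ := (MulAut.conj z).toMonoidHom.comp χ)
    (η₂ := χ.comp (MulAut.conjNormal Z).toMonoidHom)
    (MonoidHom.ext fun a => by
      simp only [MonoidHom.comp_apply, MulEquiv.coe_toMonoidHom, MulAut.conj_apply, map_mul, map_inv, hχ, hz]
      rw [MulAut.conjNormal_apply, map_mul, map_mul, map_inv])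
  exact DFunLike.congr_fun h q

/-- The correction of the element of order five. -/
theorem exists_five {x y t0 : Γ} (hx : x ^ 4 = 1) (hy : y ^ 6 = 1) (h5 : σ (t0 ^ 5) = 1)
    (h12 : σ (x⁻¹ * t0 * x * t0 ^ 2) = 1) (h13 : σ (t0⁻¹ * y⁻¹ * t0 * y) = 1) :
    ∃ t, σ t = σ t0 ∧ t ^ 5 = 1 ∧ x⁻¹ * t * x * t ^ 2 = 1 ∧ t⁻¹ * y⁻¹ * t * y = 1 := by
  obtain ⟨u, hu⟩ : ∃ u, u = t0 ^ 5 := ⟨_, rfl⟩
  obtain ⟨w, hw⟩ : ∃ w, w = x⁻¹ * t0 * x * t0 ^ 2 := ⟨_, rfl⟩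
  rw [← hu] at h5
  rw [← hw] at h12
  set c := t0⁻¹ * y⁻¹ * t0 * y with hcdef
  have cu := commute_of_one σ hc h5
  have cw := commute_of_one σ hc h12
  have cc := commute_of_one σ hc h13
  have e1 : x⁻¹ * t0 * x = w * (t0 ^ 2)⁻¹ := by rw [hw, mul_inv_cancel_right]
  have e2 : u = w ^ 5 * (u ^ 2)⁻¹ := by
    calc u = x⁻¹ * u * x := by rw [mul_assoc, ← (cu x).eq, inv_mul_cancel_left]
      _ = (x⁻¹ * t0 * x) ^ 5 := by
        have h := (conj_pow (a := x⁻¹) (b := t0) (i := 5)).symm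
        rwa [inv_inv, ← hu] at h
      _ = w ^ 5 * ((t0 ^ 2)⁻¹) ^ 5 := by rw [e1, ((cw (t0 ^ 2)⁻¹).symm).mul_pow]
      _ = _ := by rw [inv_pow, ← pow_mul, hu, ← pow_mul]
  have e3 : w ^ 5 = u ^ 3 := by
    rw [pow_succ' u 2]; exact eq_mul_inv_iff_mul_eq.1 e2 |>.symm
  have e4 : y⁻¹ * t0 * y = t0 * c := by rw [hcdef]; group
  have hc5 : c ^ 5 = 1 := by
    have h : u = u * c ^ 5 := by
      calc u = y⁻¹ * u * y := by rw [mul_assoc, ← (cu y).eq, inv_mul_cancel_left]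
        _ = (y⁻¹ * t0 * y) ^ 5 := by
          have h := (conj_pow (a := y⁻¹) (b := t0) (i := 5)).symm
          rwa [inv_inv, ← hu] at h
        _ = _ := by rw [e4, (cc t0).mul_pow, ← hu]
    exact mul_eq_left.1 h.symm
  have hc6 : c ^ 6 = 1 := by
    have hit : ∀ n : ℕ, (y ^ n)⁻¹ * t0 * y ^ n = t0 * c ^ n := by
      intro n
      induction n with
      | zero => simp
      | succ n ih =>
        calc (y ^ (n + 1))⁻¹ * t0 * y ^ (n + 1) = y⁻¹ * ((y ^ n)⁻¹ * t0 * y ^ n) * y := by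
              rw [pow_succ y n]; group
          _ = y⁻¹ * t0 * (c ^ n * y) := by rw [ih]; group
          _ = y⁻¹ * t0 * (y * c ^ n) := by rw [((cc y).pow_right n).eq]
          _ = (y⁻¹ * t0 * y) * c ^ n := by group
          _ = t0 * c ^ (n + 1) := by rw [e4, mul_assoc, ← pow_succ']
    have h := hit 6
    rw [hy, inv_one, one_mul, mul_one] at h
    exact mul_eq_left.1 h.symm
  have hc1 : c = 1 := by rwa [pow_succ, hc5, one_mul] at hc6
  set a := u * (w ^ 2)⁻¹ with ha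
  have hka : σ a = 1 := by rw [ha, map_mul, map_inv, map_pow, h12, one_pow, inv_one, h5, mul_one]
  have ca := commute_of_one σ hc hka
  have hp : ∀ n : ℕ, a ^ n = u ^ n * (w ^ (2 * n))⁻¹ := fun n => by
    rw [ha, ((cw u).pow_right 2).inv_right.mul_pow, inv_pow, ← pow_mul]
  have ha5 : a ^ 5 = u⁻¹ := by
    rw [hp, show 2 * 5 = 5 * 2 from rfl, pow_mul, e3, ← pow_mul, show (3 * 2 : ℕ) = 5 + 1 from rfl, pow_succ u 5,
      mul_inv_rev, ← mul_assoc, (((Commute.refl u).pow_left 5).inv_right).eq, mul_assoc, mul_inv_cancel, mul_one]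
  have ha3 : a ^ 3 = w⁻¹ := by
    rw [hp, show 2 * 3 = 5 + 1 from rfl, pow_succ w 5, e3, mul_inv_rev, ← mul_assoc, ((cw (u ^ 3)).inv_right).eq,
      mul_assoc, mul_inv_cancel, mul_one]
  refine ⟨t0 * a, by rw [map_mul, hka, mul_one], ?_, ?_, ?_⟩
  · rw [(ca t0).mul_pow, ← hu, ha5, mul_inv_cancel]
  · rw [(ca t0).mul_pow]
    calc x⁻¹ * (t0 * a) * x * (t0 ^ 2 * a ^ 2) = x⁻¹ * t0 * (a * x) * t0 ^ 2 * a ^ 2 := by group
      _ = x⁻¹ * t0 * (x * a) * t0 ^ 2 * a ^ 2 := by rw [(ca x).eq]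
      _ = x⁻¹ * t0 * x * (a * t0 ^ 2) * a ^ 2 := by group
      _ = x⁻¹ * t0 * x * (t0 ^ 2 * a) * a ^ 2 := by rw [(ca (t0 ^ 2)).eq]
      _ = w * a ^ 3 := by rw [hw, pow_succ' a 2]; group
      _ = 1 := by rw [ha3, mul_inv_cancel]
  · calc (t0 * a)⁻¹ * y⁻¹ * (t0 * a) * y = a⁻¹ * (t0⁻¹ * y⁻¹ * t0) * (a * y) := by group
      _ = a⁻¹ * (t0⁻¹ * y⁻¹ * t0) * (y * a) := by rw [(ca y).eq]
      _ = a⁻¹ * c * a := by rw [hcdef]; group
      _ = 1 := by rw [hc1, mul_one, inv_mul_cancel]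

end

/-- What is known in the small group, in the two elements of the perfect normal subgroup and the outer one. -/
structure SmallRels {P : Type*} [Group P] (X Y Z : P) : Prop where
  r1 : Y ^ 6 = 1
  r2 : (X ^ 2) * Y * (X ^ 2) * (Y⁻¹) = 1
  r3 : (X⁻¹ * Y⁻¹ * X * Y) ^ 3 = 1
  r4 : ((X⁻¹) * (Y ^ 2) * X * (Y ^ 3)) ^ 3 = 1
  r5 : (X * Y) ^ 8 = 1
  r6 : (X * Y * X * (Y ^ 3)) ^ 4 = 1
  r7 : Z ^ 2 = 1
  r8 : (Z * X) ^ 2 = 1
  r9 : (Z⁻¹ * (Y * X * Y * X * (Y ^ 2) * X * (Y⁻¹))⁻¹ * Z * (Y * X * Y * X * (Y ^ 2) * X * (Y⁻¹))) *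
    ((X ^ 2)⁻¹) = 1
  r10 : Z * (((((Y ^ 3) * X * Y * X * Y)⁻¹ * Z * ((Y ^ 3) * X * Y * X * Y)) * X) ^ 3) = 1
  c_sq : X ^ 2 * X ^ 2 = 1

theorem r10_split {M : Type*} [Group M] (z h x : M) :
    z * (((h⁻¹ * z * h) * x) ^ 3) =
      (z * h⁻¹ * z⁻¹) * (z * z) * (h * x * h⁻¹) * (z * (h * x * h⁻¹) * z⁻¹) * (z * z) * (h * x) := by
  simp only [pow_succ, pow_zero, one_mul]
  group

variable {Γ H P : Type*} [Group Γ] [Group H] [Group P]

/-- Lifts satisfying every relator. -/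
theorem exists_rels (σ : Γ →* H) (hs : Function.Surjective σ) (hc : σ.ker ≤ Subgroup.center Γ) (ψ : P →* H)
    {Q : Subgroup P} [hn : Q.Normal] (hperf : commutator Q = ⊤) (χ : Q →* Γ) (hχ : ∀ q, σ (χ q) = ψ q)
    (X Y : Q) (Z : P) (S : SmallRels (X : P) (Y : P) Z) (T : H) (h11 : T ^ 5 = 1)
    (h12 : (ψ X)⁻¹ * T * ψ X * T ^ 2 = 1) (h13 : T⁻¹ * (ψ Y)⁻¹ * T * ψ Y = 1) (h14 : (ψ Z * T) ^ 3 = 1) :
    ∃ x y z t : Γ, σ x = ψ X ∧ σ y = ψ Y ∧ σ z = ψ Z ∧ σ t = T ∧ Rels x y z t := by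
  have hq : ∀ e : Q, (e : P) = 1 → χ e = 1 := fun e he => by rw [show e = 1 from Subtype.ext he, map_one]
  have hx : (χ X) ^ 4 = 1 := by
    rw [← map_pow]; exact hq _ (by rw [SubmonoidClass.coe_pow, show 4 = 2 + 2 from rfl, pow_add, S.c_sq])
  have hy : (χ Y) ^ 6 = 1 := by rw [← map_pow]; exact hq _ (by rw [SubmonoidClass.coe_pow, S.r1])
  obtain ⟨t0, ht0⟩ := hs T
  obtain ⟨t, ht, e11, e12, e13⟩ := exists_five σ hc hx hy (by rw [map_pow, ht0, h11])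
    (by simp only [map_mul, map_inv, map_pow, hχ, ht0, h12]) (by simp only [map_mul, map_inv, hχ, ht0, h13])
  rw [ht0] at ht
  have hconj := fun {Z' : P} {z' : Γ} (hz' : σ z' = ψ Z') (q : Q) => conj_lift σ hc ψ hperf χ hχ hz' q
  obtain ⟨z0, hz0⟩ := hs (ψ Z)
  -- the outer relators in terms of the square
  have key : ∀ z, σ z = ψ Z → z * χ X * z⁻¹ = (χ X)⁻¹ ∧
      (z⁻¹ * (χ Y * χ X * χ Y * χ X * (χ Y ^ 2) * χ X * ((χ Y)⁻¹))⁻¹ * z *
        (χ Y * χ X * χ Y * χ X * (χ Y ^ 2) * χ X * ((χ Y)⁻¹))) * ((χ X ^ 2)⁻¹) = 1 ∧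
      z * ((((((χ Y) ^ 3) * χ X * χ Y * χ X * χ Y)⁻¹ * z * (((χ Y) ^ 3) * χ X * χ Y * χ X * χ Y)) * χ X) ^ 3) =
        (z * z) * (z * z) := by
    intro z hz
    have hv : ∀ k, Commute k (z * z) := commute_of_one σ hc
      (by rw [map_mul, hz, ← map_mul, ← sq, S.r7, map_one])
    refine ⟨?_, ?_, ?_⟩
    · rw [hconj hz X, ← map_inv]
      refine congrArg χ (Subtype.ext ?_)
      show Z * X * Z⁻¹ = (X : P)⁻¹
      rw [inv_eq_of_mul_eq_one_right (show Z * Z = 1 by rw [← sq, S.r7])]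
      exact eq_inv_of_mul_eq_one_left (by rw [mul_assoc, ← sq, S.r8])
    · set g := Y * X * Y * X * (Y ^ 2) * X * Y⁻¹ with hg
      have eg : χ Y * χ X * χ Y * χ X * (χ Y ^ 2) * χ X * (χ Y)⁻¹ = χ g := by
        simp only [hg, map_mul, map_inv, map_pow]
      rw [eg]
      have h1 := hconj (show σ z⁻¹ = ψ Z⁻¹ by rw [map_inv, map_inv, hz]) g⁻¹
      rw [inv_inv, map_inv] at h1
      rw [h1, ← map_pow, ← map_inv, ← map_mul, ← map_mul]
      refine hq _ ?_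
      simp only [Subgroup.coe_mul, Subgroup.coe_inv, SubmonoidClass.coe_pow, inv_inv, hg]
      exact S.r9
    · set h := Y ^ 3 * X * Y * X * Y with hh
      have eh : (χ Y) ^ 3 * χ X * χ Y * χ X * χ Y = χ h := by simp only [hh, map_mul, map_pow]
      rw [eh, r10_split, ← map_inv, ← map_mul, ← map_mul, hconj hz h⁻¹, hconj hz (h * X * h⁻¹)]
      set A : Q := ⟨Z * (h⁻¹ : Q) * Z⁻¹, hn.conj_mem _ (h⁻¹ : Q).2 Z⟩
      set B : Q := ⟨Z * (h * X * h⁻¹ : Q) * Z⁻¹, hn.conj_mem _ (h * X * h⁻¹ : Q).2 Z⟩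
      have e : A * (h * X * h⁻¹) * B * (h * X) = 1 := Subtype.ext (by
        have r := S.r10
        rw [r10_split, ← sq, S.r7, mul_one, mul_one] at r
        simpa only [A, B, hh, Subgroup.coe_mul, Subgroup.coe_inv, SubmonoidClass.coe_pow, OneMemClass.coe_one] using r)
      have e' := congrArg χ e
      simp only [map_mul, map_one] at e'
      calc χ A * (z * z) * χ (h * X * h⁻¹) * χ B * (z * z) * χ (h * X)
          = (χ A * (z * z)) * χ (h * X * h⁻¹) * χ B * ((z * z) * χ (h * X)) := by group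
        _ = ((z * z) * χ A) * χ (h * X * h⁻¹) * χ B * (χ (h * X) * (z * z)) := by
          rw [(hv _).eq, (hv (χ (h * X))).symm.eq]
        _ = (z * z) * (χ A * χ (h * X * h⁻¹) * χ B * χ (h * X)) * (z * z) := by group
        _ = _ := by rw [map_mul χ (h * X) h⁻¹, map_mul, e', mul_one]
  -- the correction of the involution
  set v := z0 * z0 with hv0
  set w := (z0 * t) ^ 3 with hw0
  have kv : σ v = 1 := by rw [hv0, map_mul, hz0, ← map_mul, ← sq, S.r7, map_one]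
  have kw : σ w = 1 := by rw [hw0, map_pow, map_mul, hz0, ht, h14]
  have cv := commute_of_one σ hc kv
  have cw := commute_of_one σ hc kw
  set c := χ X ^ 2 with hcdef
  have hxinv : z0 * χ X * z0⁻¹ = (χ X)⁻¹ := (key z0 hz0).1
  have hcz : c⁻¹ * z0 * c = z0 := by
    have h1 : z0 * c * z0⁻¹ = c⁻¹ := by rw [hcdef, ← conj_pow, hxinv, inv_pow]
    have h2 : c⁻¹ = c := inv_eq_of_mul_eq_one_right (by rw [hcdef, ← pow_add]; exact hx)
    rw [h2] at h1 ⊢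
    have h3 : z0 * c = c * z0 := mul_inv_eq_iff_eq_mul.1 h1
    rw [← h3, mul_assoc, hcdef, ← pow_add, hx, mul_one]
  have hct : c⁻¹ * t * c = t⁻¹ := by
    have h1 : (χ X)⁻¹ * t * χ X = (t ^ 2)⁻¹ := eq_inv_of_mul_eq_one_left e12
    have h2 : c⁻¹ * t * c = (χ X)⁻¹ * ((χ X)⁻¹ * t * χ X) * χ X := by rw [hcdef, sq]; group
    have h3 := conj_pow (a := (χ X)⁻¹) (b := t) (i := 2)
    rw [inv_inv] at h3
    rw [h2, h1, show (χ X)⁻¹ * (t ^ 2)⁻¹ * χ X = ((χ X)⁻¹ * t ^ 2 * χ X)⁻¹ by group, ← h3, h1, inv_pow, inv_inv,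
      ← pow_mul]
    exact eq_inv_of_mul_eq_one_left (by rw [← pow_succ]; exact e11)
  have hw2 : w * w = v ^ 3 := by
    have h1 : w = (z0 * t⁻¹) ^ 3 := by
      calc w = c⁻¹ * w * c := by rw [mul_assoc, ← (cw c).eq, inv_mul_cancel_left]
        _ = (c⁻¹ * (z0 * t) * c) ^ 3 := by
          have h := (conj_pow (a := c⁻¹) (b := z0 * t) (i := 3)).symm
          rwa [inv_inv, ← hw0] at h
        _ = _ := by
          rw [show c⁻¹ * (z0 * t) * c = (c⁻¹ * z0 * c) * (c⁻¹ * t * c) by group, hcz, hct]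
    have h2 : (z0⁻¹ * t⁻¹) ^ 3 = w⁻¹ := by
      have h := conj_pow (a := z0⁻¹) (b := (z0 * t)⁻¹) (i := 3)
      rw [inv_inv, inv_pow, ← hw0] at h
      calc (z0⁻¹ * t⁻¹) ^ 3 = (z0⁻¹ * (z0 * t)⁻¹ * z0) ^ 3 := by congr 1; group
        _ = z0⁻¹ * (w⁻¹ * z0) := by rw [h, mul_assoc]
        _ = z0⁻¹ * (z0 * w⁻¹) := by rw [← ((cw z0).inv_right).eq]
        _ = w⁻¹ := inv_mul_cancel_left _ _
    have h3 : z0⁻¹ = z0 * v⁻¹ := by rw [hv0]; group
    rw [h3, show z0 * v⁻¹ * t⁻¹ = (z0 * t⁻¹) * v⁻¹ by rw [mul_assoc, ← ((cv t⁻¹).inv_right).eq, mul_assoc],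
      ((cv (z0 * t⁻¹)).inv_right).mul_pow, ← h1, inv_pow] at h2
    have h4 : w * w * (v ^ 3)⁻¹ = 1 := by
      rw [mul_assoc, h2, mul_inv_cancel]
    exact mul_inv_eq_one.1 h4
  set a := v * w⁻¹ with ha
  have ka : σ a = 1 := by rw [ha, map_mul, map_inv, kv, kw, inv_one, mul_one]
  have ca := commute_of_one σ hc ka
  have hcvw : Commute v w⁻¹ := (cw v).inv_right
  have hz : σ (z0 * a) = ψ Z := by rw [map_mul, ka, mul_one, hz0]
  have hva : (z0 * a) * (z0 * a) = 1 := by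
    rw [← sq, (ca z0).mul_pow, sq z0, ← hv0, ha, hcvw.mul_pow, ← mul_assoc, ← pow_succ' v 2, inv_pow, sq w, hw2,
      mul_inv_cancel]
  obtain ⟨k1, k2, k3⟩ := key (z0 * a) hz
  refine ⟨χ X, χ Y, z0 * a, t, hχ X, hχ Y, hz, ht, hy, ?_, ?_, ?_, ?_, ?_, by rw [sq, hva], ?_, k2,
    by rw [k3, hva, one_mul], e11, e12, e13, ?_⟩
  · simp only [← map_mul, ← map_inv, ← map_pow]
    exact hq (X ^ 2 * Y * X ^ 2 * Y⁻¹) (by simpa using S.r2)
  · simp only [← map_mul, ← map_inv, ← map_pow]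
    exact hq ((X⁻¹ * Y⁻¹ * X * Y) ^ 3) (by simpa using S.r3)
  · simp only [← map_mul, ← map_inv, ← map_pow]
    exact hq ((X⁻¹ * Y ^ 2 * X * Y ^ 3) ^ 3) (by simpa using S.r4)
  · simp only [← map_mul, ← map_inv, ← map_pow]
    exact hq ((X * Y) ^ 8) (by simpa using S.r5)
  · simp only [← map_mul, ← map_inv, ← map_pow]
    exact hq ((X * Y * X * Y ^ 3) ^ 4) (by simpa using S.r6)
  · rw [sq, show z0 * a * χ X * (z0 * a * χ X) = (z0 * a * χ X * (z0 * a)⁻¹) * ((z0 * a) * (z0 * a)) * χ X by group,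
      k1, hva, mul_one, inv_mul_cancel]
  · rw [show z0 * a * t = z0 * t * a by rw [mul_assoc, ← (ca t).eq, mul_assoc], (ca (z0 * t)).mul_pow, ← hw0, ha,
      hcvw.mul_pow, inv_pow, ← mul_assoc, (cv w).pow_right 3 |>.eq, mul_assoc, show w ^ 3 = w * w * w by rw [pow_succ, sq], hw2]
    group

end CfsgLib.Sporadic.HNMult
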